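import Groth.Agent.S3638
import Groth.Agent.RelDualCMLib.Amp
import Groth.Agent.ShriekAffLib.FibreChart
import Groth.Agent.MiscFlat6.TopDimCovers

/-!
# The relative dualizing object sits in degree `-d` near a Cohen–Macaulay point
-/

set_option autoImplicit false
set_option linter.style.haveILetI false
set_option linter.unusedSectionVars false
set_option backward.isDefEq.respectTransparency false
set_option backward.isDefEq.respectTransparency.types false
set_option maxHeartbeats 1000000
set_option synthInstance.maxHeartbeats 200000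

noncomputable section

universe u

open CategoryTheory CategoryTheory.Limits AlgebraicGeometry
open Groth.Agent

attribute [local instance] HasDerivedCategory.standard

namespace QGorEndLib

variable {X T : Scheme.{u}} [IsNoetherian T] (f : X ⟶ T) [IsProper f] [Flat f] [DCoh.HasRpush f]
  (hf : DCoh.RpushPreservesQCoh f) (a : DCoh.DQCoh T ⥤ DCoh.DQCoh X) (adj : DCoh.RpushQ f hf ⊣ a)
  (O : DCoh.DQCoh T) (hO : Nonempty (O.obj ≅ DCoh.inD T (Coh.structureModule T)))

include adj hO in
/-- At a Cohen–Macaulay point `a(O)` is a nonzero flat module in degree `-d`. -/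
theorem concentrated_at (d : ℕ)
    (hd : ∀ (y : T) (Z : Set ↥(f.fiber y)), Z ∈ irreducibleComponents ↥(f.fiber y) →
      topologicalKrullDim ↥Z = (d : WithBot ℕ∞))
    (x : X) (hx : MoreMor.IsCMAt f x) :
    (∀ i : ℤ, i ≠ -(d : ℤ) → Subsingleton ((DCoh.HD (a.obj O).obj i).presheaf.stalk x)) ∧
      FlatMod.IsFlatOverAt f (DCoh.HD (a.obj O).obj (-(d : ℤ))) x ∧
      Nontrivial ((DCoh.HD (a.obj O).obj (-(d : ℤ))).presheaf.stalk x) := by
  haveI : ∀ (U V : Scheme.{u}) (j : U ⟶ V) [IsOpenImmersion j],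
      PreservesFiniteLimits (Scheme.Modules.restrictFunctor j) := fun U V j _ => inferInstance
  haveI : ∀ R : CommRingCat.{u}, PreservesFiniteLimits (tilde.functor R) :=
    fun R => HensSchLib.tilde_preservesFiniteLimits R
  haveI : ∀ y : T, DCoh.HasLpull (f.fiberι y) := fun y => KFlatLib.hasLpull _
  haveI : IsLocallyNoetherian X := LocallyOfFiniteType.isLocallyNoetherian f
  haveI : CompactSpace X := QuasiCompact.compactSpace_of_compactSpace f
  haveI : IsNoetherian X := ⟨⟩
  haveI : LocallyOfFinitePresentation f := ⟨fun {U} hU {V} hV e => by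
    haveI : IsNoetherianRing Γ(T, U) := IsLocallyNoetherian.component_noetherian ⟨U, hU⟩
    exact RingHom.FinitePresentation.of_finiteType.mp (LocallyOfFiniteType.finiteType_appLE f hU hV e)⟩
  let K := (a.obj O).obj
  obtain ⟨eid⟩ := TildePCLib.nonempty_resD_id K
  have eid' : (DCoh.restrictD (𝟙 X)).obj K ≅ K := eid
  have hpc := (RigidLib.isRelPerfect_rightAdjoint f hf a adj O hO).1
  obtain ⟨C, _, _, y, ε, _, Q, ω, hω, hQ, -, ⟨eC⟩, -, -⟩ :=
    ShriekAffLib.exists_fibre_chart f (𝟙 X) f (Category.id_comp f) hf a adj O hO ⊤ x trivial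
  subst hQ
  let ι := f.fiberι y
  let q := f.fiberToSpecResidueField y
  haveI : IsProper q := inferInstanceAs (IsProper (pullback.snd f (T.fromSpecResidueField y)))
  haveI : CompactSpace (f.fiber y) := QuasiCompact.compactSpace_of_compactSpace q
  haveI := DCohRestrLib.hasRpush q
  have hq : DCoh.RpushPreservesQCoh q := fun E hE => QRlimLib.isQCohD_rpush _ hE
  obtain ⟨n, hn, huniq⟩ := (DualCxLib.cm_stalk_iff_chart ε hω eC Q).1
    ((ShriekAffLib.fiber_stalk_iff f (fun A [CommRing A] => LocCoh.IsCohenMacaulayLocalRing A) y (ε Q)).2 hx.2)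
  obtain ⟨a', adj', ⟨eF⟩⟩ := RelDualCMLib.exists_fibre f hf a adj O hO y hq
  have hdimF : topologicalKrullDim ↥(f.fiber y) = (d : WithBot ℕ∞) := by
    rw [MiscFlat6.dim_eq_iSup_components]
    refine le_antisymm (iSup₂_le fun Z hZ => (hd _ Z hZ).le) ?_
    exact (hd _ _ (irreducibleComponent_mem_irreducibleComponents (ε Q))).ge.trans
      (le_iSup₂ (f := fun (Z : Set ↥(f.fiber y)) _ => topologicalKrullDim ↥Z) _
        (irreducibleComponent_mem_irreducibleComponents _))
  obtain ⟨⟨-, -, hsupp⟩, -⟩ := Groth.Agent.S3638.result (T.residueField y) (f.fiber y) q d hdimF hq a' adj'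
    (RelDualCMLib.unitQ _) ⟨Iso.refl _⟩
  let eK : ∀ i : ℤ, DCoh.HD ((DCoh.Lpull ι).obj ((DCoh.restrictD (𝟙 X)).obj K)) i ≅
      DCoh.HD (a'.obj (RelDualCMLib.unitQ (Spec (T.residueField y)))).obj i := fun i =>
    (DerivedCategory.homologyFunctor _ i).mapIso ((DCoh.Lpull ι).mapIso eid' ≪≫ eF)
  have hnt : Nontrivial ((DCoh.HD ((DCoh.Lpull ι).obj ((DCoh.restrictD (𝟙 X)).obj K))
      (-(d : ℤ))).presheaf.stalk (ε Q)) := by
    refine not_subsingleton_iff_nontrivial.1 fun h => not_subsingleton_iff_nontrivial.2 ?_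
      ((DCohRestrLib.subsingleton_stalk_of_iso (eK _) (ε Q)).1 h)
    exact hsupp.ge (Set.mem_iUnion₂.2 ⟨irreducibleComponent (ε Q),
      ⟨irreducibleComponent_mem_irreducibleComponents _,
        hd _ _ (irreducibleComponent_mem_irreducibleComponents _)⟩, mem_irreducibleComponent⟩)
  have hnd := huniq _ hnt
  subst hnd
  have hfib : ∀ i, i ≠ -(d : ℤ) → Subsingleton ((DCoh.HD ((DCoh.Lpull ι).obj K) i).presheaf.stalk (ε Q)) :=
    fun i hi => (DCohRestrLib.subsingleton_stalk_of_iso
      ((DerivedCategory.homologyFunctor _ i).mapIso ((DCoh.Lpull ι).mapIso eid')) (ε Q)).1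
      (not_nontrivial_iff_subsingleton.1 fun h => hi (huniq i h))
  obtain ⟨hz, hfl⟩ := ShriekAffLib.stalk_concentrated f y (ε Q) K hpc _ hfib
  refine ⟨hz, hfl, not_subsingleton_iff_nontrivial.1 fun h0 => not_subsingleton_iff_nontrivial.2 hnt ?_⟩
  exact (DCohRestrLib.subsingleton_stalk_of_iso
    ((DerivedCategory.homologyFunctor _ _).mapIso ((DCoh.Lpull ι).mapIso eid')) (ε Q)).2
    (ShriekAffLib.stalk_fibre_zero f y (ε Q) K (fun i => by
      rcases eq_or_ne i (-(d : ℤ)) with rfl | hi
      · exact h0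
      · exact hz i hi) _)

end QGorEndLib
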