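import Groth.Agent.QGorSecLib.Vanish
import Groth.Agent.DepthLib.GeomRkOpen
import Groth.Agent.InvLib.Depth
import Groth.Agent.CMFlatLib.Open
import Groth.Prelude.Def_RelCanon

/-!
# Non-Cohen–Macaulay points of an `S_k`-morphism have fibre dimension above `k`
-/

set_option autoImplicit false
set_option linter.style.haveILetI false
set_option backward.isDefEq.respectTransparency false
set_option backward.isDefEq.respectTransparency.types false

universe u

open CategoryTheory AlgebraicGeometry
open Groth.Agent

namespace QGorEndLib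

/-- An `(S_k)` local ring of a point which is not Cohen–Macaulay has dimension above `k`. -/
theorem lt_dim_of_not_cm {F : Scheme.{u}} [IsLocallyNoetherian F] (y : F) (k : ℕ)
    (hS : RelCanon.SkAt k (Coh.structureModule F) y)
    (h : ¬ LocCoh.IsCohenMacaulayLocalRing (F.presheaf.stalk y)) :
    (k : WithBot ℕ∞) < ringKrullDim (F.presheaf.stalk y) := by
  by_contra hle
  obtain ⟨e⟩ := RefHullLib.nonempty_stalk_unit F y
  have h1 := (DepthLib.hasSk_stalk_iff y k).1 (DepthLib.hasSk_congr e.symm k hS) y specializes_rfl
  rw [min_eq_right (not_lt.1 hle), ← Module.supportDim_self_eq_ringKrullDim] at h1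
  exact h { supportDim_eq_depth := le_antisymm h1 InvLib.depth_le_supportDim }

/-- Off the Cohen–Macaulay locus of an `S_k`-morphism the fibres have codimension above `k`. -/
theorem lt_dim_of_not_isCMAt {X S : Scheme.{u}} [IsLocallyNoetherian S] (f : X ⟶ S) (k : ℕ)
    [Flat f] [LocallyOfFiniteType f] (y : X)
    (hS : RelCanon.SkAt k (Coh.structureModule (f.fiber (f y))) (f.asFiber y))
    (hy : ¬ MoreMor.IsCMAt f y) :
    (k : WithBot ℕ∞) < ringKrullDim ((f.fiber (f y)).presheaf.stalk (f.asFiber y)) := by
  haveI : IsLocallyNoetherian (f.fiber (f y)) :=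
    haveI : LocallyOfFiniteType (f.fiberToSpecResidueField (f y)) :=
      inferInstanceAs (LocallyOfFiniteType (Limits.pullback.snd _ _))
    LocallyOfFiniteType.isLocallyNoetherian (f.fiberToSpecResidueField (f y))
  exact lt_dim_of_not_cm _ k hS fun h => hy ⟨Flat.stalkMap f y, h⟩

end QGorEndLib
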