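import Groth.Agent.RigidLib.Rigid
import Groth.Agent.DualCxLib.Chart
import Groth.Agent.DerLib.Devissage

/-!
# Endomorphisms of a relative dualizing sheaf on an affine chart
-/

set_option autoImplicit false
set_option linter.style.haveILetI false
set_option linter.unusedSectionVars false
set_option backward.isDefEq.respectTransparency false
set_option backward.isDefEq.respectTransparency.types false
set_option maxHeartbeats 1000000
set_option synthInstance.maxHeartbeats 200000

noncomputable section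

universe u

open CategoryTheory CategoryTheory.Limits AlgebraicGeometry
open Groth.Agent

attribute [local instance] HasDerivedCategory.standard
attribute [local instance] FlatRelPCLib.tildeExact

namespace QGorEndLib

variable {X S : Scheme.{u}} {f : X ⟶ S} [Flat f] [LocallyOfFinitePresentation f] [IsSeparated f]
  [DCoh.HasLpull (pullback.fst f f)]
  [PreservesFiniteLimits (Scheme.Modules.pushforward (pullback.diagonal f))]
  [PreservesFiniteColimits (Scheme.Modules.pushforward (pullback.diagonal f))]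
  {K : DCoh.D X}

/-- Sections of isomorphic modules. -/
def appEquiv {M N : X.Modules} (e : M ≅ N) (U : X.Opens) : Γ(M, U) ≃ₗ[Γ(X, U)] Γ(N, U) :=
  { toFun := fun m => e.hom.app U m
    invFun := fun n => e.inv.app U n
    map_add' := fun a b => map_add _ a b
    map_smul' := fun r m => Scheme.Modules.Hom.app_smul e.hom r m
    left_inv := fun m => congrArg (fun φ : M ⟶ M => φ.app U m) e.hom_inv_id
    right_inv := fun n => congrArg (fun φ : N ⟶ N => φ.app U n) e.inv_hom_id }

/-- A chart of a rigid object concentrated in one degree: the module of sections has only scalars as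
endomorphisms, and no self-extensions. -/
theorem exists_chart (hK : Dual3.IsRelDualizing f K) {U : X.Opens} (hU : IsAffineOpen U)
    {T : S.Opens} (hT : IsAffineOpen T) (e : U ≤ f ⁻¹ᵁ T) (n : ℤ) {ω : X.Modules} (eω : ω ≅ DCoh.HD K n)
    (hc : ∀ i : ℤ, i ≠ n → ∀ x ∈ U, Subsingleton ((DCoh.HD K i).presheaf.stalk x)) :
    ∃ M : Dual.D Γ(X, U), FlatRelPCLib.Mod K hU M ∧
      (Function.Bijective fun a : Γ(X, U) => a • 𝟙 M) ∧ (∀ i : ℤ, i ≠ 0 → Subsingleton (M ⟶ M⟦i⟧)) ∧
      Nonempty (M ≅ (DerivedCategory.singleFunctor (ModuleCat.{u} Γ(X, U)) n).obj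
        (ModuleCat.of Γ(X, U) Γ(ω, U))) := by
  haveI : ∀ (V : Scheme.{u}) (j : V ⟶ X) [IsOpenImmersion j],
      PreservesFiniteLimits (Scheme.Modules.restrictFunctor j) := fun V j _ => inferInstance
  obtain ⟨M, hM, hb, he⟩ := RigidLib.exists_chart_toEnd hK hU hT e
  obtain ⟨eM⟩ := id hM
  have hz : ∀ i : ℤ, i ≠ n → IsZero ((DerivedCategory.homologyFunctor (ModuleCat.{u} Γ(X, U)) i).obj M) := by
    intro i hi
    haveI : Subsingleton (Γ(DCoh.HD K i, U) : Type u) := ⟨fun s t => ProjFormLib.section_ext s t fun y hy =>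
      @Subsingleton.elim _ (hc i hi y hy) _ _⟩
    haveI : Subsingleton (Dual.HD Γ(X, U) M i) :=
      (DualCxLib.sectionsHD hU eM.symm i).toEquiv.subsingleton
    exact @ModuleCat.isZero_of_subsingleton _ _ _
      (inferInstanceAs (Subsingleton (Dual.HD Γ(X, U) M i)))
  haveI : M.IsGE n := (DerivedCategory.isGE_iff _ _).2 fun i hi => hz i (by omega)
  haveI : M.IsLE n := (DerivedCategory.isLE_iff _ _).2 fun i hi => hz i (by omega)
  obtain ⟨es⟩ := DerLib.Devissage.nonempty_iso_single M n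
  let L : Dual.HD Γ(X, U) M n ≃ₗ[Γ(X, U)] Γ(ω, U) :=
    (DualCxLib.sectionsHD hU eM.symm n).trans (appEquiv eω.symm U)
  exact ⟨M, hM, hb, he, ⟨es ≪≫ (DerivedCategory.singleFunctor _ n).mapIso L.toModuleIso⟩⟩

/-- The endomorphisms of the sections of the dualizing sheaf over an affine chart are the scalars. -/
theorem bijective_smul_id (hK : Dual3.IsRelDualizing f K) {U : X.Opens} (hU : IsAffineOpen U)
    {T : S.Opens} (hT : IsAffineOpen T) (e : U ≤ f ⁻¹ᵁ T) (n : ℤ) {ω : X.Modules} (eω : ω ≅ DCoh.HD K n)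
    (hc : ∀ i : ℤ, i ≠ n → ∀ x ∈ U, Subsingleton ((DCoh.HD K i).presheaf.stalk x)) :
    Function.Bijective fun a : Γ(X, U) => a • (LinearMap.id : Γ(ω, U) →ₗ[Γ(X, U)] Γ(ω, U)) := by
  obtain ⟨M, -, hb, -, ⟨c⟩⟩ := exists_chart hK hU hT e n eω hc
  let F := DerivedCategory.singleFunctor (ModuleCat.{u} Γ(X, U)) n
  let N := ModuleCat.of Γ(X, U) Γ(ω, U)
  have key : ∀ a : Γ(X, U), F.map (ModuleCat.ofHom (a • (LinearMap.id : N →ₗ[Γ(X, U)] N))) =
      c.inv ≫ (a • 𝟙 M) ≫ c.hom := fun a => by
    rw [Linear.smul_comp, Category.id_comp, Linear.comp_smul, c.inv_hom_id,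
      show ModuleCat.ofHom (a • (LinearMap.id : N →ₗ[Γ(X, U)] N)) = a • 𝟙 N from rfl,
      F.map_smul, F.map_id]
  refine ⟨fun a b hab => hb.1 ?_, fun φ => ?_⟩
  · have h := (key a).symm.trans ((congrArg (fun l => F.map (ModuleCat.ofHom l)) hab).trans (key b))
    rwa [cancel_epi, cancel_mono] at h
  · obtain ⟨a, ha⟩ := hb.2 (c.hom ≫ F.map (ModuleCat.ofHom φ) ≫ c.inv)
    refine ⟨a, ModuleCat.hom_ext_iff.1 (F.map_injective (?_ :
      F.map (ModuleCat.ofHom (a • (LinearMap.id : N →ₗ[Γ(X, U)] N))) = F.map (ModuleCat.ofHom φ)))⟩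
    rw [key, show a • 𝟙 M = _ from ha, Category.assoc, Category.assoc, c.inv_hom_id, Category.comp_id,
      c.inv_hom_id_assoc]

end QGorEndLib
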