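import Groth.Agent.RefHullLib.Coherent
import Groth.Agent.QCohLib.Gen

/-!
# The scalar map into the sheaf of endomorphisms
-/

set_option autoImplicit false
set_option linter.style.haveILetI false
set_option backward.isDefEq.respectTransparency false
set_option backward.isDefEq.respectTransparency.types false

noncomputable section

universe u

open CategoryTheory CategoryTheory.Limits AlgebraicGeometry TopologicalSpace Opposite
open Groth.Agent

namespace QGorEndLib

variable {X : Scheme.{u}} (F : X.Modules)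

/-- Multiplication by scalars, `O → 𝓗om(F, F)`. -/
def scalarMap : Coh.structureModule X ⟶ RefHull.homSh F F :=
  QCohLib.unitHom _ (RefHull.ofHom (𝟙 F) ⊤)

theorem scalarMap_val (U : X.Opens) (r : Γ(X, U)) (y : U) (v : F.presheaf.stalk y.1) :
    (show Γ(RefHull.homSh F F, U) from (scalarMap F).app U r).1 y v =
      X.presheaf.germ U y.1 y.2 r • v := by
  show (show Γ(RefHull.homSh F F, U) from (QCohLib.unitHom _ (RefHull.ofHom (𝟙 F) ⊤)).app U r).1 y v = _
  rw [QCohLib.unitHom_app, RefHullLib.smul_val, RefHullLib.res_val, RefHull.ofHom_apply,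
    LinearMap.smul_apply]
  obtain ⟨V, hy, m, rfl⟩ := TopCat.Presheaf.exists_germ_eq F.presheaf (x := y.1) v
  rw [RefHull.stalkMapₗ_germ]
  rfl

variable {F}

/-- Bijectivity on an affine open, from that of the scalars on the module of sections. -/
theorem bijective_scalarMap_app (hF : CohB1.IsFT F) [Coh.IsQCoh F] {U : X.Opens} (hU : IsAffineOpen U)
    (hb : Function.Bijective fun a : Γ(X, U) => a • (LinearMap.id : Γ(F, U) →ₗ[Γ(X, U)] Γ(F, U))) :
    Function.Bijective ((scalarMap F).app U) := by
  have hval : ∀ (r : Γ(X, U)) (m : Γ(F, U)),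
      RefHullLib.app (show Γ(RefHull.homSh F F, U) from (scalarMap F).app U r) m = r • m := fun r m =>
    RefHullLib.germ_ext F _ _ fun y hy => by rw [RefHullLib.germ_app, scalarMap_val, Mero.germ_smul]
  refine ⟨fun (r r' : Γ(X, U)) h => hb.1 (LinearMap.ext fun m => ?_), fun g => ?_⟩
  · show r • m = r' • m
    rw [← hval, ← hval]
    exact congrArg (fun t => RefHullLib.app (show Γ(RefHull.homSh F F, U) from t) m) h
  · let L : Γ(F, U) →ₗ[Γ(X, U)] Γ(F, U) :=
      { toFun := fun m => RefHullLib.app g m
        map_add' := fun a b => RefHullLib.germ_ext F _ _ fun y hy => by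
          rw [map_add, RefHullLib.germ_app, RefHullLib.germ_app, RefHullLib.germ_app, map_add, map_add]
        map_smul' := fun r a => RefHullLib.germ_ext F _ _ fun y hy => by
          rw [RingHom.id_apply, Mero.germ_smul, RefHullLib.germ_app, RefHullLib.germ_app, Mero.germ_smul,
            map_smul] }
    obtain ⟨r, hr⟩ := hb.2 L
    refine ⟨r, ?_⟩
    obtain ⟨I, _, e, he⟩ := QCohLib.exists_genOn_affine hF hU
    refine RefHullLib.hom_sec_ext _ _ fun y => LinearMap.ext fun v => ?_
    obtain ⟨c, rfl⟩ := RefHullLib.surjective_of_genOn he y.1 y.2 v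
    rw [Fintype.linearCombination_apply, map_sum, map_sum]
    refine Finset.sum_congr rfl fun i _ => ?_
    rw [map_smul, map_smul]
    refine congrArg (_ • ·) ?_
    rw [scalarMap_val, ← RefHullLib.germ_app g (e i) y.1 y.2, ← Mero.germ_smul]
    exact congrArg (F.presheaf.germ U y.1 y.2) (LinearMap.congr_fun hr (e i))

/-- A map bijective on the sections over small affine opens is bijective on stalks. -/
theorem bijective_stalk_of_affine {M N : X.Modules} (φ : M ⟶ N) (W : X.Opens)
    (h : ∀ V : X.Opens, IsAffineOpen V → V ≤ W → Function.Bijective (φ.app V)) (x : X) (hx : x ∈ W) :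
    Function.Bijective (RefHull.stalkMapₗ φ x) := by
  constructor
  · rw [injective_iff_map_eq_zero]
    intro v hv
    obtain ⟨V₀, hx₀, m, rfl⟩ := TopCat.Presheaf.exists_germ_eq M.presheaf (x := x) v
    rw [RefHull.stalkMapₗ_germ, ← map_zero (N.presheaf.germ V₀ x hx₀).hom] at hv
    obtain ⟨V₁, hx₁, i, i', he⟩ := N.presheaf.germ_eq x hx₀ hx₀ _ _ hv
    obtain ⟨V, hV, hxV, hVle⟩ := exists_isAffineOpen_mem_and_subset (x := x) (U := V₁ ⊓ W) ⟨hx₁, hx⟩
    have hle : V ≤ V₀ := fun y hy => i.le (hVle hy).1
    have h1 : M.presheaf.map (homOfLE hle).op m = 0 := by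
      refine (h V hV fun y hy => (hVle hy).2).1 ?_
      refine (QCohLib.app_map φ (homOfLE hle) m).trans ?_
      rw [map_zero]
      refine RefHullLib.germ_ext N _ _ fun y hy => ?_
      rw [TopCat.Presheaf.germ_res_apply, map_zero]
      have h2 := congrArg (N.presheaf.germ V₁ y (hVle hy).1) he
      rw [TopCat.Presheaf.germ_res_apply, TopCat.Presheaf.germ_res_apply, map_zero] at h2
      exact h2
    rw [← TopCat.Presheaf.germ_res_apply M.presheaf (homOfLE hle) x hxV, h1,
      map_zero]
  · intro v
    obtain ⟨V₀, hx₀, t, rfl⟩ := TopCat.Presheaf.exists_germ_eq N.presheaf (x := x) v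
    obtain ⟨V, hV, hxV, hVle⟩ := exists_isAffineOpen_mem_and_subset (x := x) (U := V₀ ⊓ W) ⟨hx₀, hx⟩
    have hle : V ≤ V₀ := fun y hy => (hVle hy).1
    obtain ⟨m, hm⟩ := (h V hV fun y hy => (hVle hy).2).2 (N.presheaf.map (homOfLE hle).op t)
    exact ⟨M.presheaf.germ V x hxV m, by rw [RefHull.stalkMapₗ_germ, hm, TopCat.Presheaf.germ_res_apply]⟩

end QGorEndLib
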