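import Groth.Agent.QGorSecLib.Setup
import Groth.Agent.QGorEndLib.Conc
import Groth.Agent.QGorEndLib.CMCodim
import Groth.Agent.QGorEndLib.Affine
import Groth.Agent.QGorEndLib.Scalar
import Groth.Agent.CMFlatLib.Open

/-!
# Endomorphisms of the relative canonical sheaf of an `S₂`-morphism
-/

set_option autoImplicit false
set_option linter.style.haveILetI false
set_option linter.unusedSectionVars false
set_option backward.isDefEq.respectTransparency false
set_option backward.isDefEq.respectTransparency.types false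
set_option maxHeartbeats 1000000
set_option synthInstance.maxHeartbeats 200000

noncomputable section

universe u

open CategoryTheory CategoryTheory.Limits AlgebraicGeometry
open Groth.Agent

attribute [local instance] HasDerivedCategory.standard

namespace QGorEndLib

variable {A : Type u} [CommRing A] [IsNoetherianRing A] {Y : Scheme.{u}} [Y.Over (Spec (CommRingCat.of A))]
  [IsProper (Y ↘ Spec (CommRingCat.of A))] [Flat (Y ↘ Spec (CommRingCat.of A))] {d : ℕ}
  (hd : Cyc.HasRelDim (Y ↘ Spec (CommRingCat.of A)) d) {ω : Y.Modules}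
  (hω : RelCanon.IsDualizingSheaf A Y d ω)

include hd hω in
/-- Over an affine open of Cohen–Macaulay points the sections of the relative canonical sheaf form a
rigid module concentrated in degree `-d`. -/
theorem exists_cm_chart {V : Y.Opens} (hV : IsAffineOpen V)
    (hCM : ∀ y ∈ V, MoreMor.IsCMAt (Y ↘ Spec (CommRingCat.of A)) y) :
    (Function.Bijective fun a : Γ(Y, V) => a • (LinearMap.id : Γ(ω, V) →ₗ[Γ(Y, V)] Γ(ω, V))) ∧
      ∃ M : Dual.D Γ(Y, V), (∀ i : ℤ, i ≠ 0 → Subsingleton (M ⟶ M⟦i⟧)) ∧
        Nonempty (M ≅ (DerivedCategory.singleFunctor (ModuleCat.{u} Γ(Y, V)) (-(d : ℤ))).obj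
          (ModuleCat.of Γ(Y, V) Γ(ω, V))) := by
  let f := Y ↘ Spec (CommRingCat.of A)
  haveI : IsNoetherianRing (CommRingCat.of A) := ‹IsNoetherianRing A›
  haveI : IsLocallyNoetherian Y := LocallyOfFiniteType.isLocallyNoetherian f
  haveI : LocallyOfFinitePresentation f := ⟨fun {U} hU {W} hW e => by
    haveI : IsNoetherianRing Γ(Spec (CommRingCat.of A), U) := IsLocallyNoetherian.component_noetherian ⟨U, hU⟩
    exact RingHom.FinitePresentation.of_finiteType.mp (LocallyOfFiniteType.finiteType_appLE f hU hW e)⟩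
  haveI := KFlatLib.hasLpull (pullback.fst f f)
  haveI : PreservesFiniteLimits (Scheme.Modules.pushforward (pullback.diagonal f)) := inferInstance
  haveI : PreservesFiniteColimits (Scheme.Modules.pushforward (pullback.diagonal f)) := inferInstance
  obtain ⟨_, hf, a, adj, O, hO, -, ⟨e⟩⟩ := QGorSecLib.exists_adjoint hd hω
  have hK := RigidLib.isRelDualizing_rightAdjoint f hf a adj O hO
  have hc : ∀ i : ℤ, i ≠ -(d : ℤ) → ∀ x ∈ V, Subsingleton ((DCoh.HD (a.obj O).obj i).presheaf.stalk x) :=
    fun i hi x hx => (concentrated_at f hf a adj O hO d (fun y Z hZ => hd y Z hZ) x (hCM x hx)).1 i hi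
  obtain ⟨M, -, -, he, hs⟩ := exists_chart hK hV (isAffineOpen_top _) (le_top : V ≤ f ⁻¹ᵁ ⊤) _ e hc
  exact ⟨bijective_smul_id hK hV (isAffineOpen_top _) (le_top : V ≤ f ⁻¹ᵁ ⊤) _ e hc, M, he, hs⟩

include hd hω in
/-- The scalars are all the endomorphisms of the relative canonical sheaf of an `S₂`-morphism. -/
theorem isIso_scalarMap (hS : RelCanon.IsSkMor (Y ↘ Spec (CommRingCat.of A)) 2) : IsIso (scalarMap ω) := by
  let f := Y ↘ Spec (CommRingCat.of A)
  haveI : IsNoetherianRing (CommRingCat.of A) := ‹IsNoetherianRing A›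
  haveI : IsLocallyNoetherian Y := LocallyOfFiniteType.isLocallyNoetherian f
  haveI : LocallyOfFinitePresentation f := ⟨fun {U} hU {W} hW e => by
    haveI : IsNoetherianRing Γ(Spec (CommRingCat.of A), U) := IsLocallyNoetherian.component_noetherian ⟨U, hU⟩
    exact RingHom.FinitePresentation.of_finiteType.mp (LocallyOfFiniteType.finiteType_appLE f hU hW e)⟩
  let W : Y.Opens := ⟨{y | MoreMor.IsCMAt f y}, CMFlatLib.isOpen_isCMAt f⟩
  have hcod : ∀ y : Y, y ∉ W → (2 : WithBot ℕ∞) ≤ ringKrullDim ((f.fiber (f y)).presheaf.stalk (f.asFiber y)) :=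
    fun y hy => le_of_lt (lt_dim_of_not_isCMAt f 2 y (hS.2.2 y) hy)
  have hcoh := QGorSecLib.isCoh_dualizing hd hω
  haveI := hcoh.1
  refine QGorSecLib.isIso_of_extends W (fun V => QGorSecLib.bijective_res_structureModule (U := W) hcod hS V)
    (QGorSecLib.extends_homSh W (QGorSecLib.extends_dualizing hd hω (U := W) hcod)) (scalarMap ω) fun x hx =>
    bijective_stalk_of_affine (scalarMap ω) W (fun V hV hVW => ?_) x hx
  exact bijective_scalarMap_app hcoh.2 hV (exists_cm_chart hd hω hV fun y hy => hVW hy).1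

end QGorEndLib
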